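import Cfsg.Agent.H567.TF.Trans
import Cfsg.Agent.S1553
import Cfsg.Agent.S0381
import Cfsg.Agent.OddHalf.Small.Mathieu
import Cfsg.Agent.QTNorm.SporJ4
import Cfsg.Agent.H868.ClosedM24

/-!
# S3842, S4094, `p = 2`: the rows `M22`, `M24` (helper567)

The stabilizer of an octad `o` has odd index and its `O₂` is the pointwise stabilizer of `o`, of exponent 2.
-/

set_option autoImplicit false

namespace Cfsg.Agent.H567.TF

open Subgroup Cfsg
open Cfsg.Agent.H509.TwoFrame
open Cfsg.Agent.QTNorm (SelfN)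
open Cfsg.Agent.SporadicA.OctadFix (fixOct mem_fixOct fixOct_sq card_fixOct)

universe u

open scoped Pointwise

section

variable {S : Type u} [Group S] (φ : S →* Equiv.Perm GolayPt)

/-- the stabilizer of a set of points -/
def DD (o : Finset GolayPt) : Subgroup S where
  carrier := {s | ∀ p, φ s p ∈ o ↔ p ∈ o}
  one_mem' := fun p => by rw [map_one]; rfl
  mul_mem' := fun {a b} ha hb p => by
    rw [map_mul, Equiv.Perm.mul_apply, ha, hb]
  inv_mem' := fun {a} ha p => by
    have h1 := ha (φ a⁻¹ p)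
    have h2 : φ a (φ a⁻¹ p) = p := by
      rw [← Equiv.Perm.mul_apply, ← map_mul, mul_inv_cancel, map_one]
      rfl
    rw [h2] at h1
    exact h1.symm

theorem mem_DD {o : Finset GolayPt} {s : S} : s ∈ DD φ o ↔ ∀ p, φ s p ∈ o ↔ p ∈ o := Iff.rfl

/-- the restriction to the octad -/
def rho (o : Finset GolayPt) : DD φ o →* Equiv.Perm ↥o where
  toFun s := (φ s).subtypePerm s.2
  map_one' := by
    apply Equiv.ext
    intro p
    apply Subtype.ext
    show φ ((1 : DD φ o) : S) p = p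
    rw [OneMemClass.coe_one, map_one]
    rfl
  map_mul' s t := by
    apply Equiv.ext
    intro p
    apply Subtype.ext
    show φ ((s * t : DD φ o) : S) p = φ s (φ t p)
    rw [Subgroup.coe_mul, map_mul]
    rfl

theorem rho_apply {o : Finset GolayPt} (s : DD φ o) (p : ↥o) : ((rho φ o s p : ↥o) : GolayPt) = φ s p := rfl

variable {φ} [Finite S] {x : S}

/-- The frame. -/
theorem false_of_octad (hφ : Function.Injective φ) (hM : ∀ s, φ s ∈ M24) (C : Ctx 2 (⊤ : Subgroup S) x)
    (hN : SelfN S) (hx : 2 ∣ orderOf x) {o : Finset GolayPt} (ho : o ∈ octads) (T₀ : Sylow 2 S)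
    (hT : (T₀ : Subgroup S) ≤ DD φ o) {t : S} (ht : t ≠ 1) (hto : ∀ p ∈ o, φ t p = p)
    (hcore : ∀ Q : Subgroup S, Q ≤ DD φ o → IsPGroup 2 Q → (∀ d ∈ DD φ o, ∀ q ∈ Q, d * q * d⁻¹ ∈ Q) →
      ∀ q ∈ Q, ∀ p ∈ o, φ q p = p) : False := by
  have h2 : Fact (Nat.Prime 2) := ⟨Nat.prime_two⟩
  obtain ⟨y, -, Cy, hy⟩ := exists_mem_sylow C hN hx T₀
  have hsq : ∀ s : S, (∀ p ∈ o, φ s p = p) → s * s = 1 := by
    intro s hs
    apply hφ
    rw [map_mul, map_one]
    exact fixOct_sq ho (mem_fixOct.2 ⟨hM s, hs⟩)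
  have hD : DD φ o ≠ ⊤ := by
    intro h
    let K : Subgroup S := (fixOct o).comap φ
    have hK : ∀ s, s ∈ K ↔ ∀ p ∈ o, φ s p = p := fun s => by
      show φ s ∈ fixOct o ↔ _
      rw [mem_fixOct]
      exact ⟨fun h => h.2, fun h => ⟨hM s, h⟩⟩
    have hKn : K.Normal := by
      refine ⟨fun k hk s => ?_⟩
      rw [hK] at hk ⊢
      intro p hp
      have hs : s⁻¹ ∈ DD φ o := by rw [h]; exact mem_top _
      have h1 : φ s⁻¹ p ∈ o := (hs p).2 hp
      rw [map_mul, map_mul, Equiv.Perm.mul_apply, Equiv.Perm.mul_apply, hk _ h1, ← Equiv.Perm.mul_apply, ← map_mul,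
        mul_inv_cancel, map_one]
      rfl
    have hKp : IsPGroup 2 K := fun k => ⟨1, Subtype.ext (by
      have h1 := hsq k ((hK k).1 k.2)
      rw [pow_one, pow_two]
      exact h1)⟩
    have h1 := Cy.eq_bot_of_normal hKn hKp
    have h3 : t ∈ K := (hK t).2 hto
    rw [h1, mem_bot] at h3
    exact ht h3
  have h1 := mem_core_of_mem Cy T₀.isPGroup' hy (hT hy) hD
  have h3 := hcore _ (core_le 2 (DD φ o)) (core_isPGroup 2 _) (fun d hd q hq => core_conj hq hd) y h1
  exact sq_ne_one Cy (hsq y h3)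

end

/-- an element of `M24` inducing a given even permutation of an octad -/
theorem exists_induce {o : Finset GolayPt} (ho : o ∈ octads) {e : Equiv.Perm ↥o} (he : e ∈ alternatingGroup ↥o) :
    ∃ g : Equiv.Perm GolayPt, g ∈ M24 ∧ (∀ p, g p ∈ o ↔ p ∈ o) ∧ ∀ p : ↥o, g p = (e p : GolayPt) := by
  have h1 : e ∈ (alternatingGroup ↥o : Set (Equiv.Perm ↥o)) := he
  rw [← S1553.result o ho] at h1
  obtain ⟨g, hg, h, rfl⟩ := h1
  exact ⟨g, hg, h, fun p => rfl⟩

theorem inrow_m24 {S : Type u} [Group S] [Finite S] (h : Spor.IsoM24 S) {x : S} (C : Ctx 2 (⊤ : Subgroup S) x)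
    (hx : 2 ∣ orderOf x) : False := by
  classical
  have h2 : Fact (Nat.Prime 2) := ⟨Nat.prime_two⟩
  have hN : SelfN S := QTNorm.selfN_m24 h
  obtain ⟨e⟩ := h
  let φ : S →* Equiv.Perm GolayPt := M24.subtype.comp e.toMonoidHom
  have hφ : Function.Injective φ := M24.subtype_injective.comp e.injective
  have hM : ∀ s, φ s ∈ M24 := fun s => (e s).2
  have ho : SporadicA.OctadStab.oct0 ∈ octads := by
    exact (SporadicA.GolayBase.fin_mem_octads_iff (by norm_num)).2 (by decide +kernel)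
  generalize SporadicA.OctadStab.oct0 = o at ho
  have hDD : DD φ o = (MulAction.stabilizer M24 o).comap e.toMonoidHom := by
    ext s
    rw [mem_DD, mem_comap]
    exact (SporadicStructure.OctadStabAbs.mem_stabilizer_finset_iff (e s) o).symm
  have hi : (DD φ o).index = 759 := by
    rw [hDD, index_comap_of_surjective _ (f := e.toMonoidHom) e.surjective]
    exact H868.ClosedM24.index_stab ho
  obtain ⟨T₀, hT₀⟩ := exists_sylow_le (D := DD φ o) (by rw [hi]; norm_num)
  have h8 : Fintype.card ↥o = 8 := by rw [Fintype.card_coe]; exact ho.2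
  -- an involution
  obtain ⟨t, ht1, ht⟩ : ∃ t : S, t ≠ 1 ∧ ∀ p ∈ o, φ t p = p := by
    have h16 : Nat.card (fixOct o) = 16 := card_fixOct ho
    have hnt : Nontrivial (fixOct o) := (Nat.card_pos_iff.1 (by rw [h16]; norm_num)).2.one_lt_card_iff_nontrivial.1
      (by rw [h16]; norm_num)
    obtain ⟨k, hk⟩ := exists_ne (1 : fixOct o)
    have hk2 := mem_fixOct.1 k.2
    refine ⟨e.symm ⟨k, hk2.1⟩, fun h => hk ?_, fun p hp => ?_⟩
    · have h1 : (⟨k, hk2.1⟩ : M24) = 1 := by
        have := congrArg e h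
        rwa [e.apply_symm_apply, map_one] at this
      exact Subtype.ext (show (k : Equiv.Perm GolayPt) = 1 from congrArg (fun m : M24 => (m : Equiv.Perm GolayPt)) h1)
    · show ((e (e.symm ⟨k, hk2.1⟩) : M24) : Equiv.Perm GolayPt) p = p
      rw [e.apply_symm_apply]
      exact hk2.2 p hp
  refine false_of_octad hφ hM C hN hx ho T₀ hT₀ ht1 ht ?_
  intro Q hQD hQ hQn
  have hs : IsSimpleGroup (alternatingGroup ↥o) := alternatingGroup.isSimpleGroup (by rw [Nat.card_eq_fintype_card, h8]; norm_num)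
  have hsur : ∀ a ∈ alternatingGroup ↥o, ∃ s : DD φ o, rho φ o s = a := by
    intro a ha
    obtain ⟨g, hg, hgo, hga⟩ := exists_induce ho ha
    have h1 : φ (e.symm ⟨g, hg⟩) = g := by
      show ((e (e.symm ⟨g, hg⟩) : M24) : Equiv.Perm GolayPt) = g
      rw [e.apply_symm_apply]
    refine ⟨⟨e.symm ⟨g, hg⟩, fun p => by rw [h1]; exact hgo p⟩, ?_⟩
    apply Equiv.ext
    intro p
    apply Subtype.ext
    rw [rho_apply]
    show φ (e.symm ⟨g, hg⟩) p = _
    rw [h1]
    exact hga p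
  have hran : ∀ s : DD φ o, rho φ o s ∈ alternatingGroup ↥o := by
    intro s
    have h1 : rho φ o s ∈ (alternatingGroup ↥o : Set (Equiv.Perm ↥o)) := by
      rw [← S1553.result o ho]
      exact ⟨φ s, hM s, s.2, rfl⟩
    exact h1
  set N : Subgroup (alternatingGroup ↥o) := ((Q.subgroupOf (DD φ o)).map (rho φ o)).subgroupOf (alternatingGroup ↥o)
    with hNdef
  have hNn : N.Normal := by
    refine ⟨fun n hn a => ?_⟩
    obtain ⟨q, hq, hqn⟩ := hn
    obtain ⟨s, hs⟩ := hsur a a.2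
    refine ⟨s * q * s⁻¹, hQn s s.2 q hq, ?_⟩
    rw [map_mul, map_mul, map_inv, hqn, hs]
    rfl
  have hNp : IsPGroup 2 N := ((hQ.comap_of_injective _ (DD φ o).subtype_injective).map _).comap_of_injective _
    (alternatingGroup ↥o).subtype_injective
  intro q hq p hp
  rcases hs.eq_bot_or_eq_top_of_normal N hNn with h1 | h1
  · have h3 : (⟨rho φ o ⟨q, hQD hq⟩, hran _⟩ : alternatingGroup ↥o) ∈ N := ⟨⟨q, hQD hq⟩, hq, rfl⟩
    rw [h1, mem_bot] at h3
    have h4 := congrArg (fun f : alternatingGroup ↥o => (((f : Equiv.Perm ↥o) ⟨p, hp⟩ : ↥o) : GolayPt)) h3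
    exact h4
  · exfalso
    rw [h1] at hNp
    obtain ⟨k, hk⟩ := IsPGroup.iff_card.1 hNp
    have hnt : Nontrivial ↥o := by
      rw [← Fintype.one_lt_card_iff_nontrivial, h8]
      norm_num
    have h9 : Nat.card (⊤ : Subgroup ↥(alternatingGroup ↥o)) = 20160 := by
      rw [Subgroup.card_top, nat_card_alternatingGroup, Nat.card_eq_fintype_card, h8]
      rfl
    rw [h9] at hk
    have h5 : (5 : ℕ) ∣ 2 ^ k := by rw [← hk]; norm_num
    have := (Nat.prime_dvd_prime_iff_eq (by norm_num : Nat.Prime 5) Nat.prime_two).1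
      ((by norm_num : Nat.Prime 5).dvd_of_dvd_pow h5)
    norm_num at this

theorem inrow_m22 {S : Type u} [Group S] [Finite S] (h : Spor.IsoM22 S) {x : S} (C : Ctx 2 (⊤ : Subgroup S) x)
    (hx : 2 ∣ orderOf x) : False := by
  classical
  have h2 : Fact (Nat.Prime 2) := ⟨Nat.prime_two⟩
  obtain ⟨e⟩ := h
  have hN : SelfN S := QTNorm.selfN_M22.congr e.symm
  let φ : S →* Equiv.Perm GolayPt := Spor.M22.subtype.comp e.toMonoidHom
  have hφ : Function.Injective φ := Spor.M22.subtype_injective.comp e.injective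
  have hM : ∀ s, φ s ∈ M24 := fun s => (e s).2.1.1
  have hf1 : ∀ s, φ s none = none := fun s => (e s).2.1.2
  have hf2 : ∀ s, φ s (some 0) = some 0 := fun s => (e s).2.2
  obtain ⟨T₀⟩ : Nonempty (Sylow 2 S) := inferInstance
  -- an involution in the centre of `T₀`
  obtain ⟨y, -, Cy, hy⟩ := exists_mem_sylow C hN hx T₀
  have hTnt : Nontrivial (T₀ : Subgroup S) := ⟨⟨y, hy⟩, 1, fun h => Cy.ne (congrArg Subtype.val h)⟩
  have hcn := T₀.isPGroup'.center_nontrivial
  obtain ⟨z, hz⟩ := exists_ne (1 : center (T₀ : Subgroup S))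
  obtain ⟨t, ht1, ht2, htc⟩ : ∃ t : S, t ≠ 1 ∧ t * t = 1 ∧ ∀ s ∈ (T₀ : Subgroup S), s * t = t * s := by
    obtain ⟨k, hk⟩ := T₀.isPGroup' (z : (T₀ : Subgroup S))
    have hex : ∃ k : ℕ, ((z : (T₀ : Subgroup S)) : S) ^ 2 ^ k = 1 := ⟨k, congrArg Subtype.val hk⟩
    have hsp := Nat.find_spec hex
    have hne : Nat.find hex ≠ 0 := by
      intro h0
      rw [h0, pow_zero, pow_one] at hsp
      exact hz (Subtype.ext (Subtype.ext hsp))
    obtain ⟨m, hm⟩ := Nat.exists_eq_succ_of_ne_zero hne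
    refine ⟨((z : (T₀ : Subgroup S)) : S) ^ 2 ^ m, ?_, ?_, ?_⟩
    · exact Nat.find_min hex (by rw [hm]; exact Nat.lt_succ_self m)
    · rw [hm, Nat.succ_eq_add_one, pow_succ, pow_mul, pow_two] at hsp
      exact hsp
    · intro s hs
      have h1 : Commute s ((z : (T₀ : Subgroup S)) : S) :=
        congrArg Subtype.val (mem_center_iff.1 z.2 ⟨s, hs⟩)
      exact h1.pow_right _
  obtain ⟨o, ho, hto⟩ := Cfsg.Agent.OddHalf.Small.Mathieu.exists_fix_octad (t := φ t) (hM t)
    (by rw [← map_mul, ht2, map_one]) (fun h => ht1 (hφ (h.trans (map_one φ).symm))) (hf1 t)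
  have hT₀ : (T₀ : Subgroup S) ≤ DD φ o := by
    intro s hs p
    rw [← hto, ← hto]
    have h1 : φ t (φ s p) = φ s (φ t p) := by
      rw [← Equiv.Perm.mul_apply, ← Equiv.Perm.mul_apply, ← map_mul, ← map_mul, htc s hs]
    rw [h1]
    exact (φ s).injective.eq_iff
  have ho1 : none ∈ o := (hto none).1 (hf1 t)
  have ho2 : (some 0 : GolayPt) ∈ o := (hto (some 0)).1 (hf2 t)
  refine false_of_octad hφ hM C hN hx ho T₀ hT₀ ht1 (fun p hp => (hto p).2 hp) ?_
  intro Q hQD hQ hQn
  let _ : MulAction S GolayPt := MulAction.compHom GolayPt φ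
  have hsm : ∀ (s : S) (p : GolayPt), s • p = φ s p := fun _ _ => rfl
  have h8 : o.card = 8 := ho.2
  set Δ : Finset GolayPt := (o.erase none).erase (some 0) with hΔ
  have hmem : ∀ p, p ∈ Δ ↔ p ≠ some 0 ∧ p ≠ none ∧ p ∈ o := fun p => by
    rw [hΔ, Finset.mem_erase, Finset.mem_erase]
  have hΔ6 : Δ.card = 6 := by
    rw [hΔ, Finset.card_erase_of_mem (Finset.mem_erase.2 ⟨by simp, ho2⟩), Finset.card_erase_of_mem ho1, h8]
  have hfix := fix_of_two_trans (X := GolayPt) (D := DD φ o) (Δ := (Δ : Set GolayPt)) hQ hQn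
    (fun q hq b hb => by
      rw [Finset.mem_coe, hmem] at hb ⊢
      rw [hsm]
      refine ⟨fun h => hb.1 ?_, fun h => hb.2.1 ?_, (hQD hq b).2 hb.2.2⟩
      · exact (φ q).injective (h.trans (hf2 q).symm)
      · exact (φ q).injective (h.trans (hf1 q).symm))
    (fun b hb c hc d hd hbc hbd => by
      rw [Finset.mem_coe, hmem] at hb hc hd
      by_cases hcd : c = d
      · exact ⟨1, one_mem _, one_smul _ _, by rw [one_smul, hcd]⟩
      -- a further point of the octad
      obtain ⟨f, hf⟩ : (o \ {none, some 0, b, c, d}).Nonempty := by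
        rw [← Finset.card_pos]
        have h1 := Finset.le_card_sdiff ({none, some 0, b, c, d} : Finset GolayPt) o
        have h3 : ({none, some 0, b, c, d} : Finset GolayPt).card ≤ 5 := Finset.card_le_five
        omega
      simp only [Finset.mem_sdiff, Finset.mem_insert, Finset.mem_singleton, not_or] at hf
      let c' : ↥o := ⟨c, hc.2.2⟩
      let d' : ↥o := ⟨d, hd.2.2⟩
      let f' : ↥o := ⟨f, hf.1⟩
      have hcd' : c' ≠ d' := fun h => hcd (congrArg Subtype.val h)
      have hcf' : c' ≠ f' := fun h => hf.2.2.2.2.1 (congrArg Subtype.val h).symm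
      have hdf' : d' ≠ f' := fun h => hf.2.2.2.2.2 (congrArg Subtype.val h).symm
      have he : Equiv.swap c' d' * Equiv.swap c' f' ∈ alternatingGroup ↥o := by
        rw [Equiv.Perm.mem_alternatingGroup, map_mul, Equiv.Perm.sign_swap hcd', Equiv.Perm.sign_swap hcf']
        rfl
      obtain ⟨g, hg, hgo, hga⟩ := exists_induce ho (inv_mem he)
      have hout : ∀ p : ↥o, p ≠ c' → p ≠ d' → p ≠ f' → g p = p := by
        intro p h1 h3 h4
        rw [hga, mul_inv_rev, Equiv.Perm.mul_apply, Equiv.swap_inv, Equiv.swap_inv,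
          Equiv.swap_apply_of_ne_of_ne h1 h3, Equiv.swap_apply_of_ne_of_ne h1 h4]
      have hgn : g none = none := hout ⟨none, ho1⟩ (fun h => hc.2.1 (congrArg Subtype.val h).symm)
        (fun h => hd.2.1 (congrArg Subtype.val h).symm) (fun h => hf.2.1 (congrArg Subtype.val h).symm)
      have hgz : g (some 0) = some 0 := hout ⟨some 0, ho2⟩ (fun h => hc.1 (congrArg Subtype.val h).symm)
        (fun h => hd.1 (congrArg Subtype.val h).symm) (fun h => hf.2.2.1 (congrArg Subtype.val h).symm)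
      have hgb : g b = b := hout ⟨b, hb.2.2⟩ (fun h => hbc (congrArg Subtype.val h))
        (fun h => hbd (congrArg Subtype.val h)) (fun h => hf.2.2.2.1 (congrArg Subtype.val h).symm)
      have hgc : g c = d := by
        rw [show c = ((c' : ↥o) : GolayPt) from rfl, hga, mul_inv_rev, Equiv.Perm.mul_apply, Equiv.swap_inv,
          Equiv.swap_inv, Equiv.swap_apply_left, Equiv.swap_apply_of_ne_of_ne hcd'.symm hdf']
      have hg22 : g ∈ Spor.M22 := ⟨⟨hg, hgn⟩, hgz⟩
      have h1 : φ (e.symm ⟨g, hg22⟩) = g := by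
        show ((e (e.symm ⟨g, hg22⟩) : Spor.M22) : Equiv.Perm GolayPt) = g
        rw [e.apply_symm_apply]
      refine ⟨e.symm ⟨g, hg22⟩, fun p => by rw [h1]; exact hgo p, ?_, ?_⟩
      · rw [hsm, h1, hgb]
      · rw [hsm, h1, hgc]) (r := 3) (by norm_num) (by norm_num) (by rw [Set.ncard_coe_finset, hΔ6]; norm_num)
  intro q hq p hp
  by_cases h1 : p = some 0
  · rw [h1]; exact hf2 q
  by_cases h3 : p = none
  · rw [h3]; exact hf1 q
  exact hfix q hq p (Finset.mem_coe.2 ((hmem p).2 ⟨h1, h3, hp⟩))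

end Cfsg.Agent.H567.TF
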