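import Cfsg.Agent.H567.TF.Base
import Cfsg.Agent.SectRankFour.AutM11
import Cfsg.Agent.Cit.Eleven
import Cfsg.Agent.H868.SelfN23
import Cfsg.Agent.QTNorm.Main
import Cfsg.Agent.H729.M22Deg

/-!
# S3842, S4094, `p = 2`: the rows `M11`, `M23` (helper567)

* `fix_of_two_trans` : a normal 2-subgroup of a group acting 2-transitively on a set whose size is not a power of two
  acts trivially;
* `inrow_m11`, `inrow_m23` : the point stabilizer has odd index and trivial `O₂`.
-/

set_option autoImplicit false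

namespace Cfsg.Agent.H567.TF

open Subgroup Cfsg
open Cfsg.Agent.H509.TwoFrame
open Cfsg.Agent.QTNorm (SelfN)

universe u

/-- A 2-subgroup `Q`, normalized by `D`, acts trivially on `Δ` if `D` is 2-transitive on `Δ` and `|Δ|` is not a power
of 2. -/
theorem fix_of_two_trans {G : Type*} [Group G] [Finite G] {X : Type*} [MulAction G X] {D Q : Subgroup G} {Δ : Set X}
    (hQ : IsPGroup 2 Q) (hn : ∀ d ∈ D, ∀ q ∈ Q, d * q * d⁻¹ ∈ Q) (hΔ : ∀ q ∈ Q, ∀ b ∈ Δ, q • b ∈ Δ)
    (h : ∀ b ∈ Δ, ∀ c ∈ Δ, ∀ d ∈ Δ, b ≠ c → b ≠ d → ∃ g ∈ D, g • b = b ∧ g • c = d) {r : ℕ} (hr : r.Prime)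
    (hr2 : r ≠ 2) (hrd : r ∣ Δ.ncard) : ∀ q ∈ Q, ∀ b ∈ Δ, q • b = b := by
  have h2 : Fact (Nat.Prime 2) := ⟨Nat.prime_two⟩
  intro u hu b hb
  by_contra hub
  have h1 : MulAction.orbit Q b = Δ := by
    apply Set.Subset.antisymm
    · rintro _ ⟨q, rfl⟩
      exact hΔ q q.2 b hb
    · intro d hd
      by_cases hbd : b = d
      · rw [← hbd]
        exact MulAction.mem_orbit_self b
      · obtain ⟨g, hg, hgb, hgc⟩ := h b hb (u • b) (hΔ u hu b hb) d hd (fun e => hub e.symm) hbd
        refine ⟨⟨g * u * g⁻¹, hn g hg u hu⟩, ?_⟩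
        show (g * u * g⁻¹) • b = d
        have h3 : g⁻¹ • b = b := by rw [inv_smul_eq_iff, hgb]
        rw [mul_smul, mul_smul, h3, hgc]
  have h3 : Nat.card (MulAction.orbit Q b) ∣ Nat.card Q := by
    have h5 := Nat.card_congr (MulAction.orbitProdStabilizerEquivGroup Q b)
    rw [Nat.card_prod] at h5
    exact ⟨_, h5.symm⟩
  rw [Nat.card_coe_set_eq, h1] at h3
  obtain ⟨k, hk⟩ := IsPGroup.iff_card.1 hQ
  rw [hk] at h3
  exact hr2 ((Nat.prime_dvd_prime_iff_eq hr Nat.prime_two).1 (hr.dvd_of_dvd_pow (hrd.trans h3)))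

/-- The index of a point stabilizer of a transitive action. -/
theorem index_stabilizer {G : Type*} [Group G] {X : Type*} [MulAction G X] (a : X) (h : ∀ b : X, ∃ g : G, g • a = b) :
    (MulAction.stabilizer G a).index = Nat.card X := by
  have h1 : MulAction.IsPretransitive G X := by
    refine ⟨fun b c => ?_⟩
    obtain ⟨g, hg⟩ := h b
    obtain ⟨k, hk⟩ := h c
    exact ⟨k * g⁻¹, by rw [mul_smul, inv_smul_eq_iff.2 hg.symm, hk]⟩
  exact MulAction.index_stabilizer_of_transitive G a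

theorem inrow_m11 {S : Type u} [Group S] [Finite S] (h : Spor.IsoM11 S) {x : S} (C : Ctx 2 (⊤ : Subgroup S) x)
    (hx : 2 ∣ orderOf x) : False := by
  classical
  have h2 : Fact (Nat.Prime 2) := ⟨Nat.prime_two⟩
  obtain ⟨X, _, _, _, h11, hs⟩ := SectRankFour.AutM11.exists_sharp4 (Cit.Eleven.isM11 h)
  have hnd : ∀ a b c d : X, a ≠ b → a ≠ c → a ≠ d → b ≠ c → b ≠ d → c ≠ d → [a, b, c, d].Nodup := by
    intro a b c d h1 h2 h3 h4 h5 h6
    simp [h1, h2, h3, h4, h5, h6]
  have hout : ∀ s : Finset X, s.card ≤ 10 → ∃ a, a ∉ s := by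
    intro s hs
    by_contra hne
    push Not at hne
    have h1 : s = Finset.univ := Finset.eq_univ_iff_forall.2 hne
    rw [h1, Finset.card_univ, h11] at hs
    omega
  obtain ⟨a, -⟩ := hout ∅ (by simp)
  -- three-transitivity
  have h3t : ∀ b c d : X, b ≠ a → c ≠ a → d ≠ a → b ≠ c → b ≠ d → ∃ g : S, g • a = a ∧ g • b = b ∧ g • c = d := by
    intro b c d hb hc hd hbc hbd
    obtain ⟨e, he⟩ := hout {a, b, c} ((Finset.card_le_three).trans (by norm_num))
    obtain ⟨f, hf⟩ := hout {a, b, d} ((Finset.card_le_three).trans (by norm_num))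
    simp only [Finset.mem_insert, Finset.mem_singleton, not_or] at he hf
    obtain ⟨g, h1, h2, h3, -⟩ := hs.exists_map a b c e a b d f
      (hnd _ _ _ _ hb.symm hc.symm (Ne.symm he.1) hbc (Ne.symm he.2.1) (Ne.symm he.2.2))
      (hnd _ _ _ _ hb.symm hd.symm (Ne.symm hf.1) hbd (Ne.symm hf.2.1) (Ne.symm hf.2.2))
    exact ⟨g, h1, h2, h3⟩
  have htr : ∀ b : X, ∃ g : S, g • a = b := by
    intro b
    obtain ⟨c, hc⟩ := hout {a, b} (Finset.card_le_two.trans (by norm_num))
    obtain ⟨d, hd⟩ := hout {a, b, c} (Finset.card_le_three.trans (by norm_num))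
    obtain ⟨e, he⟩ := hout {a, b, c, d} (Finset.card_le_four.trans (by norm_num))
    simp only [Finset.mem_insert, Finset.mem_singleton, not_or] at hc hd he
    obtain ⟨g, h1, -⟩ := hs.exists_map a c d e b c d e
      (hnd _ _ _ _ (Ne.symm hc.1) (Ne.symm hd.1) (Ne.symm he.1) (Ne.symm hd.2.2) (Ne.symm he.2.2.1) (Ne.symm he.2.2.2))
      (hnd _ _ _ _ (Ne.symm hc.2) (Ne.symm hd.2.1) (Ne.symm he.2.1) (Ne.symm hd.2.2) (Ne.symm he.2.2.1)
        (Ne.symm he.2.2.2))
    exact ⟨g, h1⟩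
  have hi := index_stabilizer a htr
  rw [Nat.card_eq_fintype_card, h11] at hi
  refine false_of_core C (QTNorm.selfN_m11 h) hx (D := MulAction.stabilizer S a) (by rw [hi]; norm_num) ?_ ?_
  · intro h1
    rw [h1, index_top] at hi
    norm_num at hi
  · intro Q hQD hQ hQn
    have hfix := fix_of_two_trans (X := X) (D := MulAction.stabilizer S a) (Δ := {b : X | b ≠ a}) hQ hQn
      (fun q hq b hb => by
        intro h1
        have h2 : q • a = a := hQD hq
        exact hb (smul_left_cancel q (h1.trans h2.symm)))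
      (fun b hb c hc d hd hbc hbd => by
        obtain ⟨g, h1, h2, h3⟩ := h3t b c d hb hc hd hbc hbd
        exact ⟨g, h1, h2, h3⟩) (r := 5) (by norm_num) (by norm_num) (by
          have h1 : ({b : X | b ≠ a} : Set X) = ((Finset.univ.erase a : Finset X) : Set X) := by
            ext b; simp
          rw [h1, Set.ncard_coe_finset, Finset.card_erase_of_mem (Finset.mem_univ _), Finset.card_univ, h11]
          norm_num)
    rw [eq_bot_iff]
    intro q hq
    obtain ⟨b, hb⟩ := hout {a} (by simp)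
    obtain ⟨c, hc⟩ := hout {a, b} (Finset.card_le_two.trans (by norm_num))
    obtain ⟨d, hd⟩ := hout {a, b, c} (Finset.card_le_three.trans (by norm_num))
    simp only [Finset.mem_insert, Finset.mem_singleton, not_or] at hb hc hd
    rw [mem_bot]
    exact hs.eq_one q a b c d (hnd _ _ _ _ (Ne.symm hb) (Ne.symm hc.1) (Ne.symm hd.1) (Ne.symm hc.2) (Ne.symm hd.2.1)
      (Ne.symm hd.2.2)) (hQD hq) (hfix q hq b hb) (hfix q hq c hc.1) (hfix q hq d hd.1)

theorem inrow_m23 {S : Type u} [Group S] [Finite S] (h : Spor.IsoM23 S) {x : S} (C : Ctx 2 (⊤ : Subgroup S) x)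
    (hx : 2 ∣ orderOf x) : False := by
  classical
  have h2 : Fact (Nat.Prime 2) := ⟨Nat.prime_two⟩
  obtain ⟨e⟩ := h
  have h23 : Nat.card Spor.M23 = 10200960 := SporadicA.MathieuRecog.card_M23
  have h22 : Nat.card Spor.M22 = 443520 := H729.M22Deg.card_M22
  have hle : Spor.M22 ≤ Spor.M23 := inf_le_left
  have hs : IsSimpleGroup Spor.M22 := SporadicA.MathieuRecog.simple_M22
  set D₀ : Subgroup Spor.M23 := Spor.M22.subgroupOf Spor.M23 with hD₀
  have hself : SelfN S := H868.selfN_M23.congr e.symm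
  set D : Subgroup S := D₀.map e.symm.toMonoidHom with hD
  let f : D ≃* Spor.M22 := (e.symm.subgroupMap D₀).symm.trans (subgroupOfEquivOfLe hle)
  have hsD : IsSimpleGroup D := f.isSimpleGroup
  have hcD : Nat.card D = 443520 := by rw [Nat.card_congr f.toEquiv, h22]
  have hi : D.index = 23 := by
    have h1 := D.card_mul_index
    rw [hcD, Nat.card_congr e.toEquiv, h23] at h1
    omega
  refine false_of_core C hself hx (D := D) (by rw [hi]; norm_num) ?_ ?_
  · intro h1
    rw [h1, index_top] at hi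
    norm_num at hi
  · intro Q hQD hQ hQn
    have hnor : (Q.subgroupOf D).Normal := ⟨fun q hq d => hQn d d.2 q hq⟩
    rcases hsD.eq_bot_or_eq_top_of_normal _ hnor with h1 | h1
    · rw [subgroupOf_eq_bot] at h1
      rw [eq_bot_iff]
      exact fun q hq => h1.le_bot ⟨hq, hQD hq⟩
    · exfalso
      have h3 : IsPGroup 2 D := hQ.to_le (subgroupOf_eq_top.1 h1)
      obtain ⟨k, hk⟩ := IsPGroup.iff_card.1 h3
      rw [hcD] at hk
      have h5 : (5 : ℕ) ∣ 2 ^ k := by rw [← hk]; norm_num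
      have := (Nat.prime_dvd_prime_iff_eq (by norm_num : Nat.Prime 5) Nat.prime_two).1
        ((by norm_num : Nat.Prime 5).dvd_of_dvd_pow h5)
      norm_num at this

end Cfsg.Agent.H567.TF
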