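import Cfsg.Agent.H509.TwoFrame
import Cfsg.Agent.Involutions.BaerSuzuki
import Cfsg.Agent.QTNorm.SporBase

/-!
# S3842, S4094, `p = 2`: tools for the sporadic rows (helper567)

* `sq_ne_one` : in the context `Ctx 2 L x` the element `x` is not an involution;
* `exists_mem_sylow` : if the Sylow 2-subgroups are self-normalizing, a conjugate of `x` lies in a given one;
* `false_of_core` : no proper subgroup of odd index has trivial `O₂`, if the Sylow 2-subgroups are self-normalizing.
-/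

set_option autoImplicit false

namespace Cfsg.Agent.H567.TF

open Subgroup Cfsg
open Cfsg.Agent.H472.ComRed (cm cm_eq cm_eq' cm_eq_one)
open Cfsg.Agent.H509.TwoFrame
open Cfsg.Agent.QTNorm (SelfN)

universe u

variable {G : Type u} [Group G] [Finite G] {L : Subgroup G} {x : G}

/-- `x` is not an involution. -/
theorem sq_ne_one (C : Ctx 2 L x) : x * x ≠ 1 := by
  intro h
  by_cases hp : IsPGroup 2 (normalClosure ({x} : Set G))
  · have h1 : normalClosure ({x} : Set G) = ⊥ := C.eq_bot_of_normal normalClosure_normal hp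
    have h2 : x ∈ normalClosure ({x} : Set G) := subset_normalClosure rfl
    rw [h1, mem_bot] at h2
    exact C.ne h2
  · obtain ⟨y, hy1, hyo, hy⟩ := Cfsg.Agent.Involutions.BaerSuzuki.exists_odd_inverted x h hp
    have hxi : x⁻¹ = x := inv_eq_of_mul_eq_one_left h
    have h3 : cm x y = y ^ 2 := by
      rw [cm_eq, hxi]
      rw [hxi] at hy
      rw [hy, inv_inv, pow_two]
    have hn1 : cm x y ≠ 1 := by
      rw [h3]
      intro h4
      have h5 : orderOf y ∣ 2 := orderOf_dvd_of_pow_eq_one h4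
      have h6 : orderOf y = 1 := by
        rcases (Nat.dvd_prime Nat.prime_two).1 h5 with h6 | h6
        · exact h6
        · rw [h6] at hyo
          exact absurd hyo (by decide)
      exact hy1 (orderOf_eq_one_iff.1 h6)
    rcases C.bad y with h4 | h4
    · exact hn1 h4
    · rw [h3] at h4
      have h5 : orderOf (y ^ 2) ∣ orderOf y := orderOf_pow_dvd 2
      exact (Nat.not_even_iff_odd.2 hyo) (even_iff_two_dvd.2 (h4.trans h5))

/-- The Sylow 2-subgroups being self-normalizing, a conjugate of `x` lies in `T₀`. -/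
theorem exists_mem_sylow (C : Ctx 2 L x) (hN : SelfN G) (hx : 2 ∣ orderOf x) (T₀ : Sylow 2 G) :
    ∃ y : G, IsConj x y ∧ Ctx 2 L y ∧ y ∈ (T₀ : Subgroup G) := by
  obtain ⟨n, k, hk, hn⟩ := exists_pow hx
  obtain ⟨g, hg⟩ := C.exists_conj hk hn T₀
  exact ⟨g * x * g⁻¹, isConj_iff.2 ⟨g, rfl⟩, C.conj g, hN T₀ hg⟩

/-- An element of a 2-subgroup lies in `O₂` of all proper subgroups containing it. -/
theorem mem_core_of_mem (C : Ctx 2 L x) {T D : Subgroup G} (hT : IsPGroup 2 T) (hx : x ∈ T) (hxD : x ∈ D)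
    (hD : D ≠ ⊤) : x ∈ core 2 D := by
  obtain ⟨k, hk⟩ := hT ⟨x, hx⟩
  have h1 : x ^ 2 ^ k = 1 := congrArg Subtype.val hk
  have h2 := C.mem_core (n := 1) hxD hD (k := k) (by rw [zpow_one]; exact h1)
  rwa [zpow_one] at h2

/-- A subgroup of odd index contains a Sylow 2-subgroup. -/
theorem exists_sylow_le {D : Subgroup G} (hD : ¬ 2 ∣ D.index) : ∃ T₀ : Sylow 2 G, (T₀ : Subgroup G) ≤ D := by
  obtain ⟨P⟩ : Nonempty (Sylow 2 D) := inferInstance
  have h1 : IsPGroup 2 ((P : Subgroup D).map D.subtype) := P.isPGroup'.map _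
  have h2 : ¬ 2 ∣ ((P : Subgroup D).map D.subtype).index := by
    rw [index_map_subtype]
    intro h
    rcases Nat.prime_two.dvd_mul.1 h with h | h
    · exact P.not_dvd_index h
    · exact hD h
  exact ⟨h1.toSylow h2, map_subtype_le _⟩

/-- No proper subgroup of odd index has trivial `O₂`. -/
theorem false_of_core (C : Ctx 2 L x) (hN : SelfN G) (hx : 2 ∣ orderOf x) {D : Subgroup G} (hD : ¬ 2 ∣ D.index)
    (ht : D ≠ ⊤) (hc : ∀ Q : Subgroup G, Q ≤ D → IsPGroup 2 Q → (∀ d ∈ D, ∀ q ∈ Q, d * q * d⁻¹ ∈ Q) → Q = ⊥) : False := by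
  obtain ⟨n, k, hk, hn⟩ := exists_pow hx
  obtain ⟨T₀, hT₀⟩ := exists_sylow_le hD
  refine C.core_ne_bot hk hn (T₀ := T₀) (D := D) ((hN T₀).trans hT₀) ht ?_
  exact hc _ (core_le 2 D) (core_isPGroup 2 D) (fun d hd q hq => core_conj hq hd)

end Cfsg.Agent.H567.TF
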