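import Cfsg.Agent.H784.TF.Ess
import Cfsg.Agent.H745.TF.EssStmts
import Cfsg.Agent.H752.TF.Co

/-!
# S5262: assembly of `StEss4` and `StEss5` from the steps of `H784/TF/Ess.lean` (helper567)
-/

set_option autoImplicit false
set_option linter.unusedVariables false

namespace Cfsg.Agent.H567.TF

open Cfsg Cfsg.FusionSystem Cfsg.Agent.H756.PU Cfsg.Agent.H745.TF Cfsg.Agent.H802.TE Cfsg.Agent.H784.TF
open Cfsg.Agent.H752.TF

universe u v

section

variable {K : Type u} [Field K] {σ : K →+* K} {m : ℕ} (hK : HypK σ m)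
variable {U : Type v} [Group U] (T : TF σ U)

include hK

/-- `{k = 0} ≤ B0` -/
theorem mem_B0 {g : U} (h : (co T g).a8 = 0) : g ∈ B0 T := by
  have h1 : g * (T.x8 0 (co T g).b8)⁻¹ ∈ T.QA := by
    rw [mem_QA hK, co_mul hK, co_inv hK, co_x8]
    refine ⟨?_, ?_⟩
    · simp [mul_a8, minv_a8, h, e8]
    · have h2 := hK.two
      simp only [mul_b8, minv_b8, minv_a8, h, e8]
      grind
  have h2 : g = g * (T.x8 0 (co T g).b8)⁻¹ * T.x8 0 (co T g).b8 := by rw [inv_mul_cancel_right]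
  rw [h2]
  exact mul_mem (Subgroup.mem_sup_left h1) (Subgroup.mem_sup_right (x8_mem_Z T _))

/-- conjugate so that `p = 0` -/
theorem exists_conj {r : U} (hr : r ∈ T.QB) (h8 : (co T r).a8 ≠ 0) :
    ∃ g : U, (co T (g * r * g⁻¹)).a8 ≠ 0 ∧
      ∀ s, (g * r * g⁻¹) * T.x5 s * (g * r * g⁻¹)⁻¹ * (T.x5 s)⁻¹ ∈ T.Z6 := by
  rw [mem_QB hK] at hr
  set t : K := (co T r).a2 / (co T r).a8 with ht
  have h2 := hK.two
  have e1' : co T (T.x1 t * r * (T.x1 t)⁻¹) = H181.TF.mul σ (H181.TF.mul σ (e1 t) (co T r)) (H181.TF.minv σ (e1 t)) := by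
    rw [co_mul hK, co_mul hK, co_inv hK, co_x1]
  have k8 : (co T (T.x1 t * r * (T.x1 t)⁻¹)).a8 = (co T r).a8 := by
    rw [e1']
    simp [mul_a8, minv_a8, e1]
  have k1 : (co T (T.x1 t * r * (T.x1 t)⁻¹)).a1 = 0 := by
    rw [e1']
    simp only [mul_a1, minv_a1, e1, hr]
    grind
  have k2 : (co T (T.x1 t * r * (T.x1 t)⁻¹)).a2 = 0 := by
    rw [e1']
    simp only [mul_a2, mul_a8, minv_a1, minv_a2, e1, hr]
    have h3 : t * (co T r).a8 = (co T r).a2 := by
      rw [ht, div_mul_cancel₀ _ h8]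
    grind
  refine ⟨T.x1 t, by rw [k8]; exact h8, fun s => ?_⟩
  generalize T.x1 t * r * (T.x1 t)⁻¹ = r' at k8 k1 k2
  rw [mem_Z6 hK]
  refine ⟨s * (co T r').a8, ?_⟩
  have h3 : r' * T.x5 s = T.x6 0 (s * (co T r').a8) * (T.x5 s * r') := by
    apply co_injective T
    rw [co_mul hK, co_mul hK, co_mul hK, co_x5, co_x6]
    generalize co T r' = c at k1 k2
    ext <;> simp only [mul_a1, mul_a2, mul_b2, mul_a3, mul_a4, mul_b4, mul_a5, mul_a6, mul_b6, mul_a7, mul_a8, mul_b8,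
      e5, e6, k1, k2, zero_mul, mul_zero, add_zero, zero_add, map_zero, pow_zero, ne_eq,
      OfNat.ofNat_ne_zero, not_false_eq_true, zero_pow]
    all_goals first | ring1 | grind
  rw [h3]
  group

end

theorem map_conj_le {G : Type*} [Group G] {N R : Subgroup G} (hN : N.Normal) (g : G) :
    N ≤ R.map (MulAut.conj g).toMonoidHom ↔ N ≤ R := by
  constructor
  · intro h x hx
    obtain ⟨y, hy, hyx⟩ := h (hN.conj_mem x hx g)
    have h1 : g * y * g⁻¹ = g * x * g⁻¹ := hyx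
    have h2 : y = x := mul_left_cancel (mul_right_cancel h1)
    rwa [← h2]
  · intro h x hx
    refine ⟨g⁻¹ * x * g, h ?_, ?_⟩
    · have h1 := hN.conj_mem x hx g⁻¹
      rwa [inv_inv] at h1
    · show g * (g⁻¹ * x * g) * g⁻¹ = x
      group

theorem map_conj_le' {G : Type*} [Group G] {N R : Subgroup G} (hN : N.Normal) (g : G) :
    R.map (MulAut.conj g).toMonoidHom ≤ N ↔ R ≤ N := by
  constructor
  · intro h x hx
    have h1 : g * x * g⁻¹ ∈ N := h ⟨x, hx, rfl⟩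
    have h2 := hN.conj_mem _ h1 g⁻¹
    have h3 : g⁻¹ * (g * x * g⁻¹) * g⁻¹⁻¹ = x := by group
    rwa [h3] at h2
  · rintro h _ ⟨x, hx, rfl⟩
    exact hN.conj_mem x (h hx) g

/-- **(ESS4)** -/
theorem stEss4_of (hcj : StConj.{v}) (h4 : StA4.{u, v}) (h5a : StA5a.{u, v}) (h5b : StA5b.{u, v})
    (h5c : StA5c.{u, v}) (h6 : StA6.{u, v}) (h7 : StA7.{u, v}) (h8 : StA8.{u, v}) (h9 : StA9.{u, v})
    (h10 : StA10.{u, v}) : StEss4.{u, v} := by
  intro K _ σ m hK U _ T R Γ h hY hQB hN3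
  have hE4 : T.E4 ≤ R := h4 hK T h hY hN3 hQB
  have hE : T.E ≤ R := by
    by_cases hB : R ≤ B0 T
    · exact h5a hK T h hN3 hQB hE4 hB
    · obtain ⟨r, hr, hrB⟩ := SetLike.not_le_iff_exists.1 hB
      have hr8 : (co T r).a8 ≠ 0 := fun h0 => hrB (mem_B0 hK T h0)
      obtain ⟨g, hg8, hg⟩ := exists_conj hK T (hQB hr) hr8
      obtain ⟨Γ', h'⟩ := hcj h g trivial
      rw [← map_conj_le (E_normal hK T) g]
      have hN3' : ¬ R.map (MulAut.conj g).toMonoidHom ≤ T.N3 := by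
        rw [map_conj_le' (N3_normal hK T) g]
        exact hN3
      have hE4' : T.E4 ≤ R.map (MulAut.conj g).toMonoidHom := (map_conj_le (E4_normal hK T) g).2 hE4
      rcases h5b hK T h' hN3' ((map_conj_le' (QB_normal hK T) g).2 hQB) hE4' ⟨g * r * g⁻¹, ⟨r, hr, rfl⟩, by
        intro hmem
        apply hg8
        have hle : B0 T ≤ T.QA ⊔ T.QB ⊓ (B0 T) := by
          unfold B0
          refine sup_le le_sup_left ?_
          refine le_sup_of_le_right (le_inf ?_ le_sup_right)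
          exact (Z8_le_N3 T).trans (N3_le_QB hK T)
        obtain ⟨S, hS⟩ := exists_sub hK T (fun c => c.a8 = 0) rfl (fun c d hc hd => by
          rw [mul_a8, hc, hd, add_zero])
        have hB0S : B0 T ≤ S := by
          unfold B0
          refine sup_le ?_ ?_
          · intro x hx
            rw [mem_QA hK] at hx
            exact (hS x).2 hx.1
          · intro x hx
            rw [mem_Z8 hK] at hx
            obtain ⟨v, rfl⟩ := hx
            rw [hS, co_x8]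
            rfl
        exact (hS _).1 (hB0S hmem), hg⟩ with h | ⟨h1, h2, h3, h4', h5⟩
      · exact h
      · exact h5c hK T h' hN3' h1 hE4' h2 h3 h4' h5
  have hX7 := h6 hK T h hN3 hQB hE
  have hX4 := h7 hK T h hN3 hQB hE hX7
  have hX6 := h8 hK T h hN3 hQB hE hX7 hX4
  have hZ6s : Z6s T ≤ R := by
    unfold Z6s
    exact sup_le (sup_le (sup_le (sup_le (sup_le ((Z2_le_E T).trans hE) ((X3_le_E T).trans hE)) hX4)
      ((X5_le_E T).trans hE)) hX6) hX7
  have hZ8 := h9 hK T h hN3 hQB hZ6s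
  have hN : T.N3 ≤ R := by
    unfold TF.N3
    exact sup_le (sup_le (sup_le (sup_le (sup_le (sup_le ((Z2_le_E T).trans hE) ((X3_le_E T).trans hE)) hX4)
      ((X5_le_E T).trans hE)) hX6) hX7) hZ8
  exact h10 hK T h hN3 hQB hN

/-- **(ESS5)** -/
theorem stEss5_of (hb1 : StB1.{u, v}) (hb2 : StB2'.{u, v}) : StEss5.{u, v} := by
  intro K _ σ m hK U _ T R Γ h hY hQA hQB
  obtain ⟨h1, -, h3⟩ := hb1 hK T h hY hQB
  exact hb2 hK T h h3 h1 hQB hQA

end Cfsg.Agent.H567.TF
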