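import Cfsg.Agent.H567.TF.Base
import Cfsg.Agent.H413.JOneLocal

/-!
# S3842, S4094, `p = 2`: the row `J1` (helper567)

The centralizer of an involution is `2 × A₅`, so an element of even order which is central modulo `O₂` there is an
involution.
-/

set_option autoImplicit false

namespace Cfsg.Agent.H567.TF

open Subgroup Cfsg
open Cfsg.Agent.H472.ComRed (cm cm_eq cm_eq' cm_eq_one)
open Cfsg.Agent.H509.TwoFrame
open Cfsg.Agent.Lib.Cores

universe u

theorem mul_self_two : ∀ a : Multiplicative (ZMod 2), a * a = 1 := by decide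

theorem inrow_j1 {S : Type u} [Group S] [Finite S] (h : Spor.IsoJ1 S) {x : S} (C : Ctx 2 (⊤ : Subgroup S) x)
    (hx : 2 ∣ orderOf x) : False := by
  classical
  have h2 : Fact (Nat.Prime 2) := ⟨Nat.prime_two⟩
  obtain ⟨e₀⟩ := h
  -- the involution in `⟨x⟩`
  obtain ⟨m, hm⟩ := hx
  have hm0 : m ≠ 0 := by
    rintro rfl
    exact (orderOf_pos x).ne' (by rw [hm])
  set z : S := x ^ m with hz
  have hz2 : orderOf z = 2 := by
    rw [hz, orderOf_pow_of_dvd hm0 (by rw [hm]; exact dvd_mul_left _ _), hm, Nat.mul_div_cancel _ (Nat.pos_of_ne_zero hm0)]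
  have hz1 : z ≠ 1 := fun h => by rw [h, orderOf_one] at hz2; norm_num at hz2
  obtain ⟨e₁⟩ := H413.JOneLocal.isLocal.cent (e₀ z) (by rw [MulEquiv.orderOf_eq, hz2])
  set D : Subgroup S := centralizer ({z} : Set S) with hD
  have hxD : x ∈ D := by
    rw [hD, mem_centralizer_singleton_iff, hz]
    exact (Commute.refl x).pow_right m
  have hDt : D ≠ ⊤ := by
    intro h1
    have h3 : z ∈ centralizer ((⊤ : Subgroup S) : Set S) := by
      rw [mem_centralizer_iff]
      intro s _
      have h4 : s ∈ D := by rw [h1]; exact mem_top _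
      rw [hD, mem_centralizer_singleton_iff] at h4
      exact h4
    rw [C.cent, mem_bot] at h3
    exact hz1 h3
  -- the homomorphism onto `A₅`
  have hmem : ∀ d : D, e₀ d ∈ centralizer ({e₀ z} : Set Spor.J1) := by
    intro d
    have h4 := mem_centralizer_singleton_iff.1 (show (d : S) ∈ centralizer ({z} : Set S) from d.2)
    rw [mem_centralizer_singleton_iff, ← map_mul, ← map_mul, h4]
  let ι : D →* centralizer ({e₀ z} : Set Spor.J1) := (e₀.toMonoidHom.comp D.subtype).codRestrict _ hmem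
  have hι : Function.Surjective ι := by
    rintro ⟨j, hj⟩
    refine ⟨⟨e₀.symm j, ?_⟩, Subtype.ext (e₀.apply_symm_apply j)⟩
    rw [hD, mem_centralizer_singleton_iff]
    apply e₀.injective
    rw [map_mul, map_mul, e₀.apply_symm_apply]
    exact mem_centralizer_singleton_iff.1 hj
  have hιi : Function.Injective ι := by
    intro a b hab
    exact Subtype.ext (e₀.injective (congrArg Subtype.val hab))
  let ψ : D →* alternatingGroup (Fin 5) := (MonoidHom.snd _ _).comp (e₁.toMonoidHom.comp ι)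
  have hψ : Function.Surjective ψ := by
    intro a
    obtain ⟨d, hd⟩ := hι (e₁.symm (1, a))
    refine ⟨d, ?_⟩
    show (e₁ (ι d)).2 = a
    rw [hd, e₁.apply_symm_apply]
  have hs : IsSimpleGroup (alternatingGroup (Fin 5)) := alternatingGroup.isSimpleGroup (by simp)
  -- the image of `O₂` is trivial
  have hcard : Nat.card (alternatingGroup (Fin 5)) = 60 := by
    rw [nat_card_alternatingGroup, Nat.card_eq_fintype_card, Fintype.card_fin]
    rfl
  have hnn := pCore_normal_inst (G := D) 2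
  have hmap : ((pCore 2 D).map ψ) = ⊥ := by
    rcases hs.eq_bot_or_eq_top_of_normal ((pCore 2 D).map ψ) (hnn.map ψ hψ) with h1 | h1
    · exact h1
    · exfalso
      have h3 : IsPGroup 2 ((pCore 2 D).map ψ) := (pCore_isPGroup 2).map ψ
      rw [h1] at h3
      obtain ⟨k, hk⟩ := IsPGroup.iff_card.1 h3
      rw [Subgroup.card_top, hcard] at hk
      have h5 : (5 : ℕ) ∣ 2 ^ k := by rw [← hk]; norm_num
      have := (Nat.prime_dvd_prime_iff_eq (by norm_num : Nat.Prime 5) Nat.prime_two).1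
        ((by norm_num : Nat.Prime 5).dvd_of_dvd_pow h5)
      norm_num at this
  -- `ψ x` is central
  have hcomm : ∀ d : D, ψ ⟨x, hxD⟩ * ψ d = ψ d * ψ ⟨x, hxD⟩ := by
    intro d
    obtain ⟨c, hc, hcd⟩ := C.ind D hxD hDt d d.2
    have h1 : ψ c = 1 := by
      have h3 : ψ c ∈ (pCore 2 D).map ψ := ⟨c, hc, rfl⟩
      rw [hmap, mem_bot] at h3
      exact h3
    have h3 : c = (⟨x, hxD⟩ : D)⁻¹ * d⁻¹ * ⟨x, hxD⟩ * d := Subtype.ext hcd
    rw [h3, map_mul, map_mul, map_mul, map_inv, map_inv] at h1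
    have h4 : ψ ⟨x, hxD⟩ * ψ d = ψ d * ψ ⟨x, hxD⟩ * ((ψ ⟨x, hxD⟩)⁻¹ * (ψ d)⁻¹ * ψ ⟨x, hxD⟩ * ψ d) := by group
    rw [h1, mul_one] at h4
    exact h4
  have hx1 : ψ ⟨x, hxD⟩ = 1 := by
    have h1 : ψ ⟨x, hxD⟩ ∈ center (alternatingGroup (Fin 5)) := by
      rw [mem_center_iff]
      intro a
      obtain ⟨d, rfl⟩ := hψ a
      exact (hcomm d).symm
    rcases hs.eq_bot_or_eq_top_of_normal (center (alternatingGroup (Fin 5))) inferInstance with h3 | h3
    · rw [h3, mem_bot] at h1
      exact h1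
    · exfalso
      have h4 : ∀ a b : alternatingGroup (Fin 5), a * b = b * a := fun a b =>
        mem_center_iff.1 (show b ∈ center (alternatingGroup (Fin 5)) by rw [h3]; exact mem_top _) a
      revert h4
      decide +kernel
  -- so `x` is an involution
  apply sq_ne_one C
  have h4 : ι (⟨x, hxD⟩ * ⟨x, hxD⟩) = ι 1 := by
    apply e₁.injective
    rw [map_mul, map_mul, map_one, map_one]
    apply Prod.ext
    · exact mul_self_two _
    · show ψ ⟨x, hxD⟩ * ψ ⟨x, hxD⟩ = 1
      rw [hx1, mul_one]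
  exact congrArg Subtype.val (hιi h4)

end Cfsg.Agent.H567.TF
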